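import Mathlib

/-!
# Abstract conic algebra

In a commutative `K`-algebra with elements `u, v, w` such that `a u + b v + c w = 1` and
`u w = v v`, the elements `X = a u - c w`, `Y = -(2 a v + b w)` satisfy the norm equation
`X² - (b/a) X Y + (c/a) Y² = 1`, and generate the same subalgebra as `u, v, w` when
`a ≠ 0` and `b² - 4 a c ≠ 0`.
-/

set_option linter.unusedSectionVars false
set_option linter.unusedVariables false
set_option linter.unusedSimpArgs false
set_option autoImplicit false
set_option linter.style.haveILetI false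
set_option maxHeartbeats 400000

universe u v

namespace Groth.Agent.Helper6.PLine

section Abstract

variable {K : Type u} [Field K] {R : Type v} [CommRing R] [Algebra K R]
variable (a b c : K) (u v w : R)

/-- `X = a u - c w`. -/
def cX : R := a • u - c • w
/-- `Y = -(2 a v + b w)`. -/
def cY : R := -((2 * a) • v + b • w)

variable {a b c u v w}

theorem norm_eq_aux (h1 : a • u + b • v + c • w = 1) (h2 : u * w = v * v) :
    a • (cX a c u w * cX a c u w) - b • (cX a c u w * cY a b v w) + c • (cY a b v w * cY a b v w)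
      = a • (1 : R) := by
  simp only [cX, cY, Algebra.smul_def, map_mul, map_ofNat] at h1 ⊢
  linear_combination
    (algebraMap K R a * (algebraMap K R a * u + algebraMap K R b * v + algebraMap K R c * w + 1))
      * h1 +
    (algebraMap K R a * (algebraMap K R b ^ 2 - 4 * algebraMap K R a * algebraMap K R c)) * h2

theorem norm_eq (ha : a ≠ 0) (h1 : a • u + b • v + c • w = 1) (h2 : u * w = v * v) :
    cX a c u w * cX a c u w - (b / a) • (cX a c u w * cY a b v w)
      + (c / a) • (cY a b v w * cY a b v w) = 1 := by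
  have key := norm_eq_aux h1 h2
  have : cX a c u w * cX a c u w - (b / a) • (cX a c u w * cY a b v w)
      + (c / a) • (cY a b v w * cY a b v w)
      = a⁻¹ • (a • (cX a c u w * cX a c u w) - b • (cX a c u w * cY a b v w)
        + c • (cY a b v w * cY a b v w)) := by
    rw [smul_add, smul_sub, smul_smul, smul_smul, smul_smul, inv_mul_cancel₀ ha, one_smul,
      div_eq_inv_mul, div_eq_inv_mul]
  rw [this, key, smul_smul, inv_mul_cancel₀ ha, one_smul]

theorem w_eq (h1 : a • u + b • v + c • w = 1) :
    (b ^ 2 - 4 * a * c) • w = (2 * a) • cX a c u w - b • cY a b v w - (2 * a) • (1 : R) := by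
  simp only [cX, cY, Algebra.smul_def, map_mul, map_ofNat, map_sub, map_pow] at h1 ⊢
  linear_combination (-2 * algebraMap K R a) * h1

theorem v_eq (h1 : a • u + b • v + c • w = 1) :
    (b ^ 2 - 4 * a * c) • v = (2 * c) • cY a b v w + b • (1 : R) - b • cX a c u w := by
  simp only [cX, cY, Algebra.smul_def, map_mul, map_ofNat, map_sub, map_pow] at h1 ⊢
  linear_combination (algebraMap K R b) * h1

theorem u_eq : a • u = cX a c u w + c • w := by
  simp [cX]

theorem adjoin_XY_eq_top (ha : a ≠ 0) (hD : b ^ 2 - 4 * a * c ≠ 0)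
    (h1 : a • u + b • v + c • w = 1)
    (htop : Algebra.adjoin K ({u, v, w} : Set R) = ⊤) :
    Algebra.adjoin K ({cX a c u w, cY a b v w} : Set R) = ⊤ := by
  set 𝒢 := Algebra.adjoin K ({cX a c u w, cY a b v w} : Set R) with h𝒢
  have hX : cX a c u w ∈ 𝒢 := Algebra.subset_adjoin (by simp)
  have hY : cY a b v w ∈ 𝒢 := Algebra.subset_adjoin (by simp)
  have hw : w ∈ 𝒢 := by
    have : w = (b ^ 2 - 4 * a * c)⁻¹ • ((b ^ 2 - 4 * a * c) • w) := by
      rw [smul_smul, inv_mul_cancel₀ hD, one_smul]
    rw [this, w_eq h1]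
    exact Subalgebra.smul_mem _ (Subalgebra.sub_mem _ (Subalgebra.sub_mem _
      (Subalgebra.smul_mem _ hX _) (Subalgebra.smul_mem _ hY _))
      (Subalgebra.smul_mem _ (Subalgebra.one_mem _) _)) _
  have hv : v ∈ 𝒢 := by
    have : v = (b ^ 2 - 4 * a * c)⁻¹ • ((b ^ 2 - 4 * a * c) • v) := by
      rw [smul_smul, inv_mul_cancel₀ hD, one_smul]
    rw [this, v_eq h1]
    exact Subalgebra.smul_mem _ (Subalgebra.sub_mem _ (Subalgebra.add_mem _
      (Subalgebra.smul_mem _ hY _) (Subalgebra.smul_mem _ (Subalgebra.one_mem _) _))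
      (Subalgebra.smul_mem _ hX _)) _
  have hu : u ∈ 𝒢 := by
    have : u = a⁻¹ • (a • u) := by
      rw [smul_smul, inv_mul_cancel₀ ha, one_smul]
    rw [this, u_eq (a := a) (u := u) (c := c) (w := w)]
    exact Subalgebra.smul_mem _ (Subalgebra.add_mem _ hX (Subalgebra.smul_mem _ hw _)) _
  rw [eq_top_iff, ← htop]
  refine Algebra.adjoin_le ?_
  rintro z hz
  simp only [Set.mem_insert_iff, Set.mem_singleton_iff] at hz
  rcases hz with rfl | rfl | rfl
  · exact hu
  · exact hv
  · exact hw

end Abstract

end Groth.Agent.Helper6.PLine
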