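import Groth.Agent.Lib.Helper6.PLine.Tensor

/-!
# `K`-linear ring automorphisms of the coordinate ring and their action on `L ⊗_K R`
-/

set_option linter.unusedSectionVars false
set_option linter.unusedVariables false
set_option linter.unusedSimpArgs false
set_option autoImplicit false
set_option linter.style.haveILetI false
set_option maxHeartbeats 400000

universe u

attribute [local instance] MvPolynomial.gradedAlgebra

open MvPolynomial HomogeneousLocalization TensorProduct

namespace Groth.Agent.Helper6.PLine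

attribute [local instance] moduleRR algebraRR

variable {K : Type u} [Field K] (q : MvPolynomial (Fin 2) K)

/-- The subgroup of `K`-linear ring automorphisms. -/
def linAut : Subgroup (RR q ≃+* RR q) where
  carrier := {g | ∀ (k : K) (z : RR q), g (k • z) = k • g z}
  mul_mem' := fun {g h} hg hh k z => by
    rw [RingAut.mul_apply, RingAut.mul_apply, hh, hg]
  one_mem' := fun k z => rfl
  inv_mem' := fun {g} hg k z => by
    apply g.injective
    rw [hg]
    simp only [RingAut.inv_apply, RingEquiv.apply_symm_apply]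

lemma mem_linAut (g : RR q ≃+* RR q) :
    g ∈ linAut q ↔ ∀ (k : K) (z : RR q), g (k • z) = k • g z := Iff.rfl

variable {q}

/-- A `K`-linear ring automorphism as a `K`-algebra endomorphism. -/
noncomputable def gAlg (g : linAut q) : RR q →ₐ[K] RR q :=
  { ((g : RR q ≃+* RR q) : RR q →+* RR q) with
    commutes' := fun k => by
      simp only [RingHom.toMonoidHom_eq_coe, OneHom.toFun_eq_coe, MonoidHom.toOneHom_coe,
        MonoidHom.coe_coe, RingHom.coe_coe]
      rw [Algebra.algebraMap_eq_smul_one, g.2 k 1, map_one] }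

lemma gAlg_apply (g : linAut q) (z : RR q) : gAlg g z = (g : RR q ≃+* RR q) z := rfl

lemma gAlg_mul (g h : linAut q) : gAlg (g * h) = (gAlg g).comp (gAlg h) := by
  ext z; rfl

lemma gAlg_one : gAlg (1 : linAut q) = AlgHom.id K (RR q) := by
  ext z; rfl

variable [hp : Fact (Irreducible (qpoly (sP q) (mP q)))]

/-- The induced `L`-algebra endomorphism of `L ⊗_K R`. -/
noncomputable def gS (g : linAut q) : SS q →ₐ[LL q] SS q :=
  Algebra.TensorProduct.map (AlgHom.id (LL q) (LL q)) (gAlg g)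

lemma gS_tmul (g : linAut q) (l : LL q) (r : RR q) :
    gS g (l ⊗ₜ[K] r) = l ⊗ₜ[K] ((g : RR q ≃+* RR q) r) := by
  rw [gS, Algebra.TensorProduct.map_tmul]; rfl

lemma gS_mul (g h : linAut q) : gS (g * h) = (gS g).comp (gS h) := by
  rw [gS, gAlg_mul, gS, gS, ← Algebra.TensorProduct.map_comp, AlgHom.id_comp]

lemma gS_one : gS (1 : linAut q) = AlgHom.id (LL q) (SS q) := by
  rw [gS, gAlg_one, Algebra.TensorProduct.map_id]

lemma gS_mul_apply (g h : linAut q) (x : SS q) : gS (g * h) x = gS g (gS h x) := by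
  rw [gS_mul]; rfl

lemma gS_one_apply (x : SS q) : gS (1 : linAut q) x = x := by
  rw [gS_one]; rfl

/-- Faithfulness: `g` is determined by `gS g`. -/
lemma gS_injective (g h : linAut q) (hgh : gS g = gS h) : g = h := by
  apply Subtype.ext
  apply RingEquiv.ext
  intro r
  have hinj : Function.Injective
      (Algebra.TensorProduct.includeRight : RR q →ₐ[K] LL q ⊗[K] RR q) :=
    Algebra.TensorProduct.includeRight_injective (algebraMap K (LL q)).injective
  apply hinj
  have := congrArg (fun φ : SS q →ₐ[LL q] SS q => φ ((1 : LL q) ⊗ₜ[K] r)) hgh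
  simp only [gS_tmul] at this
  exact this

/-- The conjugation on `L ⊗_K R`. -/
noncomputable def σS : SS q →ₐ[K] SS q :=
  Algebra.TensorProduct.map (conj (sP q) (mP q)) (AlgHom.id K (RR q))

lemma σS_tmul (l : LL q) (r : RR q) :
    σS (l ⊗ₜ[K] r) = (conj (sP q) (mP q) l) ⊗ₜ[K] r := by
  rw [σS, Algebra.TensorProduct.map_tmul]; rfl

lemma σS_comm (g : linAut q) (x : SS q) : σS (gS g x) = gS g (σS x) := by
  induction x using TensorProduct.induction_on with
  | zero => simp
  | tmul l r => rw [gS_tmul, σS_tmul, σS_tmul, gS_tmul]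
  | add x y hx hy => rw [map_add, map_add, hx, hy, map_add, map_add]


section Units

variable (hq : q ∈ homogeneousSubmodule (Fin 2) K 2) (ha : cA q ≠ 0)
  (hD : sP q ^ 2 - 4 * mP q ≠ 0)

/-- `L`-algebra endomorphisms of `L ⊗_K R` are determined by the image of `t`. -/
theorem SS_algHom_ext (ha : cA q ≠ 0) (hD : sP q ^ 2 - 4 * mP q ≠ 0) (φ ψ : SS q →ₐ[LL q] SS q)
    (h : φ (tS hq) = ψ (tS hq)) : φ = ψ := by
  have h1 : φ (tS' hq) * φ (tS hq) = 1 := by
    rw [← map_mul, mul_comm, tS_mul_tS' hq ha, map_one]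
  have h2 : ψ (tS hq) * ψ (tS' hq) = 1 := by
    rw [← map_mul, tS_mul_tS' hq ha, map_one]
  have h' : φ (tS' hq) = ψ (tS' hq) := by
    calc φ (tS' hq) = φ (tS' hq) * (ψ (tS hq) * ψ (tS' hq)) := by rw [h2, mul_one]
      _ = (φ (tS' hq) * φ (tS hq)) * ψ (tS' hq) := by rw [h]; ring
      _ = ψ (tS' hq) := by rw [h1, one_mul]
  have hcomp : (φ.comp (eBwd hq ha)).toRingHom = (ψ.comp (eBwd hq ha)).toRingHom := by
    apply laurent_ringHom_ext
    · intro c
      simp only [AlgHom.toRingHom_eq_coe, RingHom.coe_coe, AlgHom.comp_apply]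
      rw [eBwd_C, AlgHom.commutes, AlgHom.commutes]
    · simp only [AlgHom.toRingHom_eq_coe, RingHom.coe_coe, AlgHom.comp_apply]
      rw [eBwd_T, zpow_one, tU_val, h]
    · simp only [AlgHom.toRingHom_eq_coe, RingHom.coe_coe, AlgHom.comp_apply]
      rw [eBwd_T, zpow_neg_one, tU_inv_val, h']
  have hcomp' : φ.comp (eBwd hq ha) = ψ.comp (eBwd hq ha) :=
    AlgHom.ext (fun x => RingHom.congr_fun hcomp x)
  calc φ = φ.comp ((eBwd hq ha).comp (eFwd hq ha hD)) := by
        rw [eBwd_comp_eFwd, AlgHom.comp_id]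
    _ = (φ.comp (eBwd hq ha)).comp (eFwd hq ha hD) := by rw [AlgHom.comp_assoc]
    _ = (ψ.comp (eBwd hq ha)).comp (eFwd hq ha hD) := by rw [hcomp']
    _ = ψ.comp ((eBwd hq ha).comp (eFwd hq ha hD)) := by rw [AlgHom.comp_assoc]
    _ = ψ := by rw [eBwd_comp_eFwd, AlgHom.comp_id]

variable (q) in
/-- Constants as units of `L ⊗_K R`. -/
noncomputable def cU : (LL q)ˣ →* (SS q)ˣ :=
  Units.map ((algebraMap (LL q) (SS q) : LL q →+* SS q) : LL q →* SS q)

lemma cU_val (c : (LL q)ˣ) : ((cU q c : (SS q)ˣ) : SS q) = algebraMap (LL q) (SS q) c := rfl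

/-- The induced map on units. -/
noncomputable def gSU (g : linAut q) : (SS q)ˣ →* (SS q)ˣ :=
  Units.map (((gS g : SS q →ₐ[LL q] SS q) : SS q →+* SS q) : SS q →* SS q)

lemma gSU_val (g : linAut q) (x : (SS q)ˣ) : ((gSU g x : (SS q)ˣ) : SS q) = gS g x := rfl

lemma gSU_cU (g : linAut q) (c : (LL q)ˣ) : gSU g (cU q c) = cU q c := by
  apply Units.ext
  rw [gSU_val, cU_val, AlgHom.commutes]

lemma gSU_mul (g h : linAut q) (x : (SS q)ˣ) : gSU (g * h) x = gSU g (gSU h x) := by
  apply Units.ext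
  rw [gSU_val, gSU_val, gSU_val, gS_mul_apply]

lemma gSU_one (x : (SS q)ˣ) : gSU (1 : linAut q) x = x := by
  apply Units.ext
  rw [gSU_val, gS_one_apply]

theorem units_SS' (hD : sP q ^ 2 - 4 * mP q ≠ 0) (x : (SS q)ˣ) :
    ∃ (c : (LL q)ˣ) (n : ℤ), x = cU q c * tU hq ha ^ n := by
  obtain ⟨c, n, hc, h⟩ := units_SS hq ha hD (x : SS q) x.isUnit
  refine ⟨Units.mk0 c hc, n, ?_⟩
  apply Units.ext
  have hs : ∀ (l : LL q) (z : SS q), l • z = algebraMap (LL q) (SS q) l * z :=
    fun l z => Algebra.smul_def l z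
  rw [h, Units.val_mul, cU_val, Units.val_mk0, hs]

theorem units_SS_inj' (hD : sP q ^ 2 - 4 * mP q ≠ 0) {c c' : (LL q)ˣ} {n n' : ℤ}
    (h : cU q c * tU hq ha ^ n = cU q c' * tU hq ha ^ n') : c = c' ∧ n = n' := by
  have h' := congrArg (fun x : (SS q)ˣ => (x : SS q)) h
  simp only [Units.val_mul, cU_val] at h'
  have hs : ∀ (l : LL q) (z : SS q), algebraMap (LL q) (SS q) l * z = l • z :=
    fun l z => (Algebra.smul_def l z).symm
  rw [hs, hs] at h'
  obtain ⟨h1, h2⟩ := units_SS_inj hq ha hD c.ne_zero c'.ne_zero h'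
  exact ⟨Units.ext h1, h2⟩

/-- The constant attached to an automorphism. -/
noncomputable def cOf (g : linAut q) : (LL q)ˣ :=
  (units_SS' hq ha hD (gSU g (tU hq ha))).choose

/-- The exponent attached to an automorphism. -/
noncomputable def nOf (g : linAut q) : ℤ :=
  (units_SS' hq ha hD (gSU g (tU hq ha))).choose_spec.choose

lemma gSU_tU (g : linAut q) :
    gSU g (tU hq ha) = cU q (cOf hq ha hD g) * tU hq ha ^ nOf hq ha hD g :=
  (units_SS' hq ha hD (gSU g (tU hq ha))).choose_spec.choose_spec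

lemma comm_group_aux {G : Type*} [CommGroup G] (a b t : G) (n m : ℤ) :
    a * (b * t ^ m) ^ n = (a * b ^ n) * t ^ (m * n) := by
  rw [mul_zpow, ← zpow_mul, mul_assoc]

lemma gSU_general (g : linAut q) (c : (LL q)ˣ) (n : ℤ) :
    gSU g (cU q c * tU hq ha ^ n)
      = cU q (c * cOf hq ha hD g ^ n) * tU hq ha ^ (nOf hq ha hD g * n) := by
  rw [map_mul, map_zpow, gSU_cU, gSU_tU hq ha hD, map_mul, map_zpow]
  exact comm_group_aux (G := (SS q)ˣ) _ _ _ _ _

lemma cOf_nOf_mul (g h : linAut q) :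
    cOf hq ha hD (g * h) = cOf hq ha hD h * cOf hq ha hD g ^ nOf hq ha hD h ∧
      nOf hq ha hD (g * h) = nOf hq ha hD g * nOf hq ha hD h := by
  have h1 := gSU_tU hq ha hD (g * h)
  rw [gSU_mul, gSU_tU hq ha hD h, gSU_general hq ha hD] at h1
  obtain ⟨e1, e2⟩ := units_SS_inj' hq ha hD h1
  exact ⟨e1.symm, e2.symm⟩

lemma cOf_nOf_one : cOf hq ha hD (1 : linAut q) = 1 ∧ nOf hq ha hD (1 : linAut q) = 1 := by
  have h1 : tU hq ha = cU q (cOf hq ha hD 1) * tU hq ha ^ nOf hq ha hD 1 :=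
    (gSU_one (tU hq ha)).symm.trans (gSU_tU hq ha hD 1)
  have h2 : cU q 1 * tU hq ha ^ (1 : ℤ) = cU q (cOf hq ha hD 1) * tU hq ha ^ nOf hq ha hD 1 := by
    rw [map_one, one_mul, zpow_one]; exact h1
  obtain ⟨e1, e2⟩ := units_SS_inj' hq ha hD h2
  exact ⟨e1.symm, e2.symm⟩

end Units

end Groth.Agent.Helper6.PLine
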