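import Mathlib

/-!
# The coordinate ring of `ℙ¹` minus the zero locus of a binary quadratic form

Basic API for `R = K[x,y]_{(q)}` (degree-zero part of `K[x,y][1/q]`): a `K`-algebra structure,
the elements `mk n F = F / q ^ n`, and generation by `x²/q`, `xy/q`, `y²/q`.
-/

set_option linter.unusedSectionVars false
set_option linter.unusedVariables false
set_option linter.unusedSimpArgs false
set_option autoImplicit false
set_option linter.style.haveILetI false
set_option maxHeartbeats 400000

universe u

attribute [local instance] MvPolynomial.gradedAlgebra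

open MvPolynomial HomogeneousLocalization

namespace Groth.Agent.Helper6.PLine

variable {K : Type u} [Field K] (q : MvPolynomial (Fin 2) K)

/-- The coordinate ring `K[x,y]_{(q)}`. -/
abbrev RR := HomogeneousLocalization.Away (MvPolynomial.homogeneousSubmodule (Fin 2) K) q

/-- The `K`-module structure on `RR q` extending the existing scalar action. -/
@[instance_reducible] noncomputable def moduleRR : Module K (RR q) :=
  Function.Injective.module K
    (⟨⟨HomogeneousLocalization.val, HomogeneousLocalization.val_zero⟩,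
      HomogeneousLocalization.val_add⟩ : RR q →+ Localization.Away q)
    (HomogeneousLocalization.val_injective _)
    (fun c x => HomogeneousLocalization.val_smul _ c x)

attribute [local instance] moduleRR

/-- The `K`-algebra structure on `RR q` extending the existing scalar action. -/
@[instance_reducible] noncomputable def algebraRR : Algebra K (RR q) :=
  Algebra.ofModule
    (fun r x y => by
      apply HomogeneousLocalization.val_injective
      rw [HomogeneousLocalization.val_mul]
      erw [HomogeneousLocalization.val_smul, HomogeneousLocalization.val_smul]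
      rw [HomogeneousLocalization.val_mul]
      exact smul_mul_assoc r x.val y.val)
    (fun r x y => by
      apply HomogeneousLocalization.val_injective
      rw [HomogeneousLocalization.val_mul]
      erw [HomogeneousLocalization.val_smul, HomogeneousLocalization.val_smul]
      rw [HomogeneousLocalization.val_mul]
      exact mul_smul_comm r x.val y.val)

attribute [local instance] algebraRR


/-- The inverse of `q` in the localization. -/
noncomputable def Qi : Localization.Away q := Localization.mk 1 ⟨q, Submonoid.mem_powers q⟩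

lemma algebraMap_mul_Qi : algebraMap (MvPolynomial (Fin 2) K) (Localization.Away q) q * Qi q = 1 := by
  rw [Qi, ← Localization.mk_one_eq_algebraMap, Localization.mk_mul]
  simp only [mul_one, one_mul]
  exact Localization.mk_self ⟨q, Submonoid.mem_powers q⟩

lemma loc_mk_eq (n : ℕ) (F : MvPolynomial (Fin 2) K) (h : q ^ n ∈ Submonoid.powers q) :
    Localization.mk F ⟨q ^ n, h⟩ =
      algebraMap (MvPolynomial (Fin 2) K) (Localization.Away q) F * Qi q ^ n := by
  rw [Qi, Localization.mk_pow, ← Localization.mk_one_eq_algebraMap, Localization.mk_mul]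
  congr 1
  · simp
  · ext; simp

variable {q} (hq : q ∈ homogeneousSubmodule (Fin 2) K 2)

/-- The fraction `F / q ^ n` for `F` homogeneous of degree `2n`. -/
noncomputable def mkR (n : ℕ) (F : MvPolynomial (Fin 2) K)
    (hF : F ∈ homogeneousSubmodule (Fin 2) K (n • 2)) : RR q :=
  Away.mk (MvPolynomial.homogeneousSubmodule (Fin 2) K) hq n F hF

lemma val_mkR (n : ℕ) (F : MvPolynomial (Fin 2) K)
    (hF : F ∈ homogeneousSubmodule (Fin 2) K (n • 2)) :
    (mkR hq n F hF).val =
      algebraMap (MvPolynomial (Fin 2) K) (Localization.Away q) F * Qi q ^ n := by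
  rw [mkR, Away.val_mk, loc_mk_eq]

lemma mkR_surjective (z : RR q) : ∃ n F hF, mkR hq n F hF = z :=
  Away.mk_surjective _ hq z

lemma mkR_congr {n m : ℕ} (h : n = m) (F : MvPolynomial (Fin 2) K)
    (hF : F ∈ homogeneousSubmodule (Fin 2) K (n • 2))
    (hF' : F ∈ homogeneousSubmodule (Fin 2) K (m • 2)) : mkR hq n F hF = mkR hq m F hF' := by
  subst h; rfl

lemma mkR_congr' {n : ℕ} {F G : MvPolynomial (Fin 2) K} (h : F = G)
    (hF : F ∈ homogeneousSubmodule (Fin 2) K (n • 2))
    (hG : G ∈ homogeneousSubmodule (Fin 2) K (n • 2)) : mkR hq n F hF = mkR hq n G hG := by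
  subst h; rfl

lemma mkR_add (n : ℕ) (F G : MvPolynomial (Fin 2) K)
    (hF : F ∈ homogeneousSubmodule (Fin 2) K (n • 2))
    (hG : G ∈ homogeneousSubmodule (Fin 2) K (n • 2)) :
    mkR hq n (F + G) (Submodule.add_mem _ hF hG) = mkR hq n F hF + mkR hq n G hG := by
  apply HomogeneousLocalization.val_injective
  rw [HomogeneousLocalization.val_add, val_mkR, val_mkR, val_mkR, map_add, add_mul]

lemma mkR_zero (n : ℕ) : mkR hq n 0 (Submodule.zero_mem _) = 0 := by
  apply HomogeneousLocalization.val_injective
  rw [HomogeneousLocalization.val_zero, val_mkR, map_zero, zero_mul]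

lemma mkR_smul (n : ℕ) (k : K) (F : MvPolynomial (Fin 2) K)
    (hF : F ∈ homogeneousSubmodule (Fin 2) K (n • 2)) :
    mkR hq n (k • F) (Submodule.smul_mem _ k hF) = k • mkR hq n F hF := by
  apply HomogeneousLocalization.val_injective
  erw [HomogeneousLocalization.val_smul]
  rw [val_mkR, val_mkR, ← smul_mul_assoc]
  congr 1
  rw [Algebra.smul_def, Algebra.smul_def, map_mul]
  rfl

lemma mkR_mul (n m : ℕ) (F G : MvPolynomial (Fin 2) K)
    (hF : F ∈ homogeneousSubmodule (Fin 2) K (n • 2))
    (hG : G ∈ homogeneousSubmodule (Fin 2) K (m • 2))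
    (hFG : F * G ∈ homogeneousSubmodule (Fin 2) K ((n + m) • 2)) :
    mkR hq (n + m) (F * G) hFG = mkR hq n F hF * mkR hq m G hG := by
  apply HomogeneousLocalization.val_injective
  rw [HomogeneousLocalization.val_mul, val_mkR, val_mkR, val_mkR, map_mul, pow_add]
  ring

lemma mkR_one : mkR hq 0 1 ((mem_homogeneousSubmodule _ _).mpr (isHomogeneous_one _ _)) = 1 := by
  apply HomogeneousLocalization.val_injective
  rw [HomogeneousLocalization.val_one, val_mkR, map_one, pow_zero, mul_one]

lemma mkR_q : mkR hq 1 q (by simpa using hq) = 1 := by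
  apply HomogeneousLocalization.val_injective
  rw [HomogeneousLocalization.val_one, val_mkR, pow_one, algebraMap_mul_Qi]

/-- The total version of `mkR`, as a `K`-linear map. -/
noncomputable def mkP (n : ℕ) : MvPolynomial (Fin 2) K →ₗ[K] RR q where
  toFun F := mkR hq n (homogeneousComponent (n • 2) F) (homogeneousComponent_mem _ _)
  map_add' F G := by
    rw [← mkR_add]
    exact mkR_congr' hq (map_add _ _ _) _ _
  map_smul' k F := by
    rw [RingHom.id_apply, ← mkR_smul hq n k _ _]
    exact mkR_congr' hq (map_smul _ _ _) _ _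

lemma mkP_eq (n : ℕ) (F : MvPolynomial (Fin 2) K)
    (hF : F ∈ homogeneousSubmodule (Fin 2) K (n • 2)) :
    mkP hq n F = mkR hq n F hF :=
  mkR_congr' hq (homogeneousComponent_eq_self hF) _ _


lemma mkP_mul (n m : ℕ) (F G : MvPolynomial (Fin 2) K)
    (hF : F ∈ homogeneousSubmodule (Fin 2) K (n • 2))
    (hG : G ∈ homogeneousSubmodule (Fin 2) K (m • 2)) :
    mkP hq (n + m) (F * G) = mkP hq n F * mkP hq m G := by
  have hFG : F * G ∈ homogeneousSubmodule (Fin 2) K ((n + m) • 2) := by
    rw [add_smul]
    exact (mem_homogeneousSubmodule _ _).mpr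
      (((mem_homogeneousSubmodule _ _).mp hF).mul ((mem_homogeneousSubmodule _ _).mp hG))
  rw [mkP_eq hq _ _ hFG, mkP_eq hq _ _ hF, mkP_eq hq _ _ hG, mkR_mul]

lemma mkP_one : mkP hq 0 1 = 1 := by
  rw [mkP_eq hq 0 1 ((mem_homogeneousSubmodule _ _).mpr (isHomogeneous_one _ _)), mkR_one]

lemma mkP_q : mkP hq 1 q = 1 := by
  rw [mkP_eq hq 1 q (by simpa using hq), mkR_q]

lemma X_pow_mul_mem (i j n : ℕ) (h : i + j = n • 2) :
    (X 0 ^ i * X 1 ^ j : MvPolynomial (Fin 2) K) ∈ homogeneousSubmodule (Fin 2) K (n • 2) := by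
  rw [← h]
  exact (mem_homogeneousSubmodule _ _).mpr ((isHomogeneous_X_pow _ _).mul (isHomogeneous_X_pow _ _))

/-- `x² / q`. -/
noncomputable def uR : RR q := mkP hq 1 (X 0 ^ 2)
/-- `x y / q`. -/
noncomputable def vR : RR q := mkP hq 1 (X 0 * X 1)
/-- `y² / q`. -/
noncomputable def wR : RR q := mkP hq 1 (X 1 ^ 2)

lemma mkP_X_pow_mem (n : ℕ) : ∀ i j : ℕ, i + j = n • 2 →
    mkP hq n (X 0 ^ i * X 1 ^ j) ∈ Algebra.adjoin K ({uR hq, vR hq, wR hq} : Set (RR q)) := by
  induction n with
  | zero =>
    intro i j h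
    have hi : i = 0 := by simp at h; omega
    have hj : j = 0 := by simp at h; omega
    subst hi; subst hj
    simp only [pow_zero, mul_one]
    rw [mkP_one]
    exact Subalgebra.one_mem _
  | succ n ih =>
    intro i j h
    have h' : i + j = n • 2 + 2 := by rw [h, add_smul, one_smul]
    by_cases hi : 2 ≤ i
    · obtain ⟨i', rfl⟩ : ∃ i', i = i' + 2 := ⟨i - 2, by omega⟩
      have e : (X 0 ^ (i' + 2) * X 1 ^ j : MvPolynomial (Fin 2) K) =
          (X 0 ^ i' * X 1 ^ j) * (X 0 ^ 2) := by ring
      rw [e, mkP_mul hq n 1 _ _ (X_pow_mul_mem i' j n (by omega))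
        (by simpa using X_pow_mul_mem (K := K) 2 0 1 (by simp))]
      exact Subalgebra.mul_mem _ (ih i' j (by omega))
        (Algebra.subset_adjoin (by simp [uR]))
    · by_cases hj : 2 ≤ j
      · obtain ⟨j', rfl⟩ : ∃ j', j = j' + 2 := ⟨j - 2, by omega⟩
        have e : (X 0 ^ i * X 1 ^ (j' + 2) : MvPolynomial (Fin 2) K) =
            (X 0 ^ i * X 1 ^ j') * (X 1 ^ 2) := by ring
        rw [e, mkP_mul hq n 1 _ _ (X_pow_mul_mem i j' n (by omega))
          (by simpa using X_pow_mul_mem (K := K) 0 2 1 (by simp))]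
        exact Subalgebra.mul_mem _ (ih i j' (by omega))
          (Algebra.subset_adjoin (by simp [wR]))
      · have hi1 : i = 1 := by simp at h'; omega
        have hj1 : j = 1 := by simp at h'; omega
        have hn : n = 0 := by simp at h'; omega
        subst hi1; subst hj1; subst hn
        simp only [pow_one]
        exact Algebra.subset_adjoin (by simp [vR])

lemma monomial_eq_fin2 (d : Fin 2 →₀ ℕ) (c : K) :
    (monomial d c : MvPolynomial (Fin 2) K) = c • (X 0 ^ d 0 * X 1 ^ d 1) := by
  rw [monomial_eq, Finsupp.prod_fintype _ _ (by simp), Fin.prod_univ_two, smul_eq_C_mul]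

lemma degree_fin2 (d : Fin 2 →₀ ℕ) : d.degree = d 0 + d 1 := by
  rw [Finsupp.degree_eq_sum, Fin.sum_univ_two]

theorem adjoin_uvw_eq_top :
    Algebra.adjoin K ({uR hq, vR hq, wR hq} : Set (RR q)) = ⊤ := by
  rw [eq_top_iff]
  rintro z -
  obtain ⟨n, F, hF, rfl⟩ := mkR_surjective hq z
  rw [← mkP_eq hq n F hF]
  have hsum : mkP hq n F = ∑ d ∈ F.support, mkP hq n (monomial d (coeff d F)) := by
    conv_lhs => rw [F.as_sum]
    rw [map_sum]
  rw [hsum]
  refine Subalgebra.sum_mem _ (fun d hd => ?_)
  rw [monomial_eq_fin2, map_smul]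
  refine Subalgebra.smul_mem _ (mkP_X_pow_mem hq n _ _ ?_) _
  rw [← degree_fin2]
  have := (mem_homogeneousSubmodule _ _).mp hF
  exact this.degree_eq_sum_deg_support hd ▸ rfl

end Groth.Agent.Helper6.PLine
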