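import Groth.Agent.Lib.Helper6.PLine.Aut

/-!
# Finite groups of automorphisms of `ℙ¹` minus an irreducible quadratic point
-/

set_option linter.unusedSectionVars false
set_option linter.unusedVariables false
set_option linter.unusedSimpArgs false
set_option autoImplicit false
set_option linter.style.haveILetI false
set_option maxHeartbeats 400000

universe u

attribute [local instance] MvPolynomial.gradedAlgebra

open MvPolynomial HomogeneousLocalization TensorProduct

namespace Groth.Agent.Helper6.PLine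

attribute [local instance] moduleRR algebraRR

variable {K : Type u} [Field K] {q : MvPolynomial (Fin 2) K}
variable [hp : Fact (Irreducible (qpoly (sP q) (mP q)))]
variable (hq : q ∈ homogeneousSubmodule (Fin 2) K 2) (ha : cA q ≠ 0)
  (hD : sP q ^ 2 - 4 * mP q ≠ 0)

theorem eq_of_data (g h : linAut q) (hc : cOf hq ha hD g = cOf hq ha hD h)
    (hn : nOf hq ha hD g = nOf hq ha hD h) : g = h := by
  apply gS_injective
  apply SS_algHom_ext hq ha hD
  have h1 := gSU_tU hq ha hD g
  have h2 := gSU_tU hq ha hD h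
  rw [hc, hn, ← h2] at h1
  exact congrArg (fun x : (SS q)ˣ => (x : SS q)) h1

theorem nOf_eq (g : linAut q) : nOf hq ha hD g = 1 ∨ nOf hq ha hD g = -1 := by
  have h1 := (cOf_nOf_mul hq ha hD g g⁻¹).2
  rw [mul_inv_cancel, (cOf_nOf_one hq ha hD).2] at h1
  exact Int.eq_one_or_neg_one_of_mul_eq_one h1.symm

theorem data_pow (g : linAut q) (hn : nOf hq ha hD g = 1) (k : ℕ) :
    nOf hq ha hD (g ^ k) = 1 ∧ cOf hq ha hD (g ^ k) = cOf hq ha hD g ^ k := by
  induction k with
  | zero =>
    rw [pow_zero, pow_zero]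
    exact ⟨(cOf_nOf_one hq ha hD).2, (cOf_nOf_one hq ha hD).1⟩
  | succ k ih =>
    obtain ⟨e1, e2⟩ := cOf_nOf_mul hq ha hD (g ^ k) g
    rw [pow_succ]
    refine ⟨by rw [e2, ih.1, hn, one_mul], ?_⟩
    rw [e1, hn, zpow_one, ih.2, pow_succ, mul_comm]

lemma σS_tS : σS (tS hq) = tS' hq := by
  have h1 : qα q • YS hq = (qα q) ⊗ₜ[K] YR hq := by
    rw [YS, TensorProduct.smul_tmul', smul_eq_mul, mul_one]
  have h2 : qα' q • YS hq = (qα' q) ⊗ₜ[K] YR hq := by
    rw [YS, TensorProduct.smul_tmul', smul_eq_mul, mul_one]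
  rw [tS, tS', h1, h2, map_add, XS, σS_tmul, σS_tmul, map_one, conj_rα]

include hq ha hD in
lemma nontrivial_SS : Nontrivial (SS q) := (eEquiv hq ha hD).toEquiv.nontrivial

/-- The descent argument: an automorphism acting as `t ↦ c₀ t` with `c₀ ∈ K` has `c₀² = 1`. -/
theorem sq_eq_one_of_mem_K (g : linAut q) (hn : nOf hq ha hD g = 1) (c₀ : K)
    (hc : ((cOf hq ha hD g : (LL q)ˣ) : LL q) = algebraMap K (LL q) c₀) : c₀ * c₀ = 1 := by
  haveI := nontrivial_SS hq ha hD
  set κ : SS q := algebraMap K (SS q) c₀ with hκ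
  have E1 : gS g (tS hq) = κ * tS hq := by
    have h1 := congrArg (fun x : (SS q)ˣ => (x : SS q)) (gSU_tU hq ha hD g)
    simp only [gSU_val, Units.val_mul, cU_val, hn, zpow_one, tU_val] at h1
    rw [h1, hc, hκ, ← IsScalarTower.algebraMap_apply]
  have E2 : gS g (tS' hq) = κ * tS' hq := by
    have := σS_comm g (tS hq)
    rw [σS_tS, E1, map_mul, σS_tS, hκ, AlgHom.commutes] at this
    exact this.symm
  have E3 : gS g (tS' hq) * gS g (tS hq) = 1 := by
    rw [← map_mul, mul_comm, tS_mul_tS' hq ha, map_one]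
  rw [E1, E2] at E3
  have E4 : κ * κ = 1 := by
    have h := tS_mul_tS' hq ha
    calc κ * κ = κ * κ * (tS hq * tS' hq) := by rw [h, mul_one]
      _ = κ * tS' hq * (κ * tS hq) := by ring
      _ = 1 := E3
  rw [hκ, ← map_mul] at E4
  exact (algebraMap K (SS q)).injective (by rw [E4, map_one])

/-- Roots of unity of the quadratic extension lie in `K`. -/
theorem root_of_unity_mem_K
    (hK : ∀ n : ℕ, 0 < n → (Polynomial.X ^ n - 1 : Polynomial K).Splits)
    (c : LL q) (k : ℕ) (hk : 0 < k) (hck : c ^ k = 1) :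
    ∃ c₀ : K, algebraMap K (LL q) c₀ = c := by
  have hs := hK k hk
  have hroots := hs.roots_map (algebraMap K (LL q))
  have hne : (Polynomial.X ^ k - 1 : Polynomial (LL q)) ≠ 0 :=
    Polynomial.X_pow_sub_C_ne_zero hk 1
  have hmap : (Polynomial.X ^ k - 1 : Polynomial K).map (algebraMap K (LL q))
      = Polynomial.X ^ k - 1 := by simp
  have hc : c ∈ ((Polynomial.X ^ k - 1 : Polynomial K).map (algebraMap K (LL q))).roots := by
    rw [hmap, Polynomial.mem_roots hne]
    simp [hck]
  rw [hroots, Multiset.mem_map] at hc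
  obtain ⟨c₀, -, h⟩ := hc
  exact ⟨c₀, h⟩

theorem cOf_eq_of_finite_order
    (hK : ∀ n : ℕ, 0 < n → (Polynomial.X ^ n - 1 : Polynomial K).Splits)
    (g : linAut q) (hn : nOf hq ha hD g = 1) (k : ℕ) (hk : 0 < k) (hgk : g ^ k = 1) :
    cOf hq ha hD g = 1 ∨ cOf hq ha hD g = -1 := by
  have h1 := (data_pow hq ha hD g hn k).2
  rw [hgk, (cOf_nOf_one hq ha hD).1] at h1
  have h2 : ((cOf hq ha hD g : (LL q)ˣ) : LL q) ^ k = 1 := by
    rw [← Units.val_pow_eq_pow_val, ← h1, Units.val_one]
  obtain ⟨c₀, hc₀⟩ := root_of_unity_mem_K hK _ k hk h2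
  have h3 := sq_eq_one_of_mem_K hq ha hD g hn c₀ hc₀.symm
  rcases mul_self_eq_one_iff.mp h3 with h | h
  · left
    apply Units.ext
    rw [← hc₀, h, map_one, Units.val_one]
  · right
    apply Units.ext
    rw [← hc₀, h, map_neg, map_one, Units.val_neg, Units.val_one]


section Main

variable (hK : ∀ n : ℕ, 0 < n → (Polynomial.X ^ n - 1 : Polynomial K).Splits)
  (G : Subgroup (RR q ≃+* RR q)) [Finite G] (hle : G ≤ linAut q)

include hq ha hD hK in
theorem sq_eq_one_of_finite_order (g : linAut q) (k : ℕ) (hk : 0 < k) (hgk : g ^ k = 1) :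
    g ^ 2 = 1 := by
  rcases nOf_eq hq ha hD g with hn | hn
  · obtain ⟨e1, e2⟩ := data_pow hq ha hD g hn 2
    apply eq_of_data hq ha hD
    · rw [e2, (cOf_nOf_one hq ha hD).1]
      rcases cOf_eq_of_finite_order hq ha hD hK g hn k hk hgk with h | h
      · rw [h, one_pow]
      · rw [h]; simp
    · rw [e1, (cOf_nOf_one hq ha hD).2]
  · obtain ⟨e1, e2⟩ := cOf_nOf_mul hq ha hD g g
    apply eq_of_data hq ha hD
    · rw [pow_two, e1, (cOf_nOf_one hq ha hD).1, hn, zpow_neg_one, mul_inv_cancel]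
    · rw [pow_two, e2, (cOf_nOf_one hq ha hD).2, hn]; norm_num

include hq ha hD hK hle in
theorem main_exponent (g : RR q ≃+* RR q) (hg : g ∈ G) : g ^ 2 = 1 := by
  set x : G := ⟨g, hg⟩ with hx
  obtain ⟨k, hk, hxk⟩ := (isOfFinOrder_of_finite x).exists_pow_eq_one
  have h1 : (Subgroup.inclusion hle x) ^ k = 1 := by rw [← map_pow, hxk, map_one]
  have h2 := sq_eq_one_of_finite_order hq ha hD hK _ k hk h1
  rw [← map_pow] at h2
  have h3 : x ^ 2 = 1 := Subgroup.inclusion_injective hle (by rw [h2, map_one])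
  have := congrArg (fun y : G => (y : RR q ≃+* RR q)) h3
  simpa [hx] using this

include hq ha hD hK hle in
theorem main_card : Nat.card G ≤ 4 := by
  classical
  -- the data map
  let ψ : G → linAut q := Subgroup.inclusion hle
  have hψmul : ∀ x y : G, ψ (x * y) = ψ x * ψ y := fun x y => map_mul _ x y
  have hfin : ∀ x : G, ∃ k : ℕ, 0 < k ∧ ψ x ^ k = 1 := by
    intro x
    obtain ⟨k, hk, hxk⟩ := (isOfFinOrder_of_finite x).exists_pow_eq_one
    exact ⟨k, hk, by rw [← map_pow, hxk, map_one]⟩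
  let f : G → ℤ × (LL q)ˣ := fun x => (nOf hq ha hD (ψ x), cOf hq ha hD (ψ x))
  have hf : Function.Injective f := by
    intro x y hxy
    have h1 : nOf hq ha hD (ψ x) = nOf hq ha hD (ψ y) := congrArg Prod.fst hxy
    have h2 : cOf hq ha hD (ψ x) = cOf hq ha hD (ψ y) := congrArg Prod.snd hxy
    exact Subgroup.inclusion_injective hle (eq_of_data hq ha hD _ _ h2 h1)
  -- the reference constant
  let c₀ : (LL q)ˣ := if h : ∃ x : G, nOf hq ha hD (ψ x) = -1 then cOf hq ha hD (ψ h.choose) else 1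
  let T : Finset (ℤ × (LL q)ˣ) := {(1, 1), (1, -1), (-1, c₀), (-1, -c₀)}
  have hT : ∀ x : G, f x ∈ T := by
    intro x
    rcases nOf_eq hq ha hD (ψ x) with hn | hn
    · obtain ⟨k, hk, hxk⟩ := hfin x
      rcases cOf_eq_of_finite_order hq ha hD hK (ψ x) hn k hk hxk with h | h
      · have : f x = (1, 1) := Prod.ext hn h
        rw [this]; simp [T]
      · have : f x = (1, -1) := Prod.ext hn h
        rw [this]; simp [T]
    · have hex : ∃ x : G, nOf hq ha hD (ψ x) = -1 := ⟨x, hn⟩
      have hc₀ : c₀ = cOf hq ha hD (ψ hex.choose) := dif_pos hex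
      have hn₀ : nOf hq ha hD (ψ hex.choose) = -1 := hex.choose_spec
      set x₀ := hex.choose with hx₀
      obtain ⟨e1, e2⟩ := cOf_nOf_mul hq ha hD (ψ x₀) (ψ x)
      rw [hn, hn₀] at e2
      rw [hn, zpow_neg_one, ← hc₀] at e1
      obtain ⟨k, hk, hxk⟩ := hfin (x₀ * x)
      rw [hψmul] at hxk
      rcases cOf_eq_of_finite_order hq ha hD hK (ψ x₀ * ψ x) (by rw [e2]; norm_num) k hk hxk
        with h | h
      · rw [h] at e1
        have hc : cOf hq ha hD (ψ x) = c₀ := (mul_inv_eq_one.mp e1.symm)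
        have : f x = (-1, c₀) := Prod.ext hn hc
        rw [this]; simp [T]
      · rw [h] at e1
        have hc : cOf hq ha hD (ψ x) = -c₀ := by
          have := e1.symm
          rw [mul_inv_eq_iff_eq_mul] at this
          rw [this]; simp
        have : f x = (-1, -c₀) := Prod.ext hn hc
        rw [this]; simp [T]
  have hinj : Function.Injective (fun x : G => (⟨f x, hT x⟩ : T)) := by
    intro x y hxy
    exact hf (congrArg Subtype.val hxy)
  calc Nat.card G ≤ Nat.card T := Nat.card_le_card_of_injective _ hinj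
    _ = T.card := by rw [Nat.card_eq_fintype_card, Fintype.card_coe]
    _ ≤ 4 := Finset.card_le_four

end Main

end Groth.Agent.Helper6.PLine
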