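import Mathlib

/-!
# Units of the Laurent polynomial ring over a field, and an extensionality lemma
-/

set_option linter.unusedSectionVars false
set_option linter.unusedVariables false
set_option linter.unusedSimpArgs false
set_option autoImplicit false
set_option linter.style.haveILetI false
set_option maxHeartbeats 400000

universe u v

open LaurentPolynomial

namespace Groth.Agent.Helper6.PLine

variable {L : Type u} [Field L]

theorem laurent_isUnit_eq (f : L[T;T⁻¹]) (hf : IsUnit f) :
    ∃ (c : L) (n : ℤ), c ≠ 0 ∧ f = C c * T n := by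
  obtain ⟨g, hfg⟩ := hf.exists_right_inv
  obtain ⟨n, p, hp⟩ := LaurentPolynomial.exists_T_pow f
  obtain ⟨n', p', hp'⟩ := LaurentPolynomial.exists_T_pow g
  have hpp : p * p' = (Polynomial.X : Polynomial L) ^ (n + n') := by
    apply Polynomial.toLaurent_injective
    rw [map_mul, hp, hp', Polynomial.toLaurent_X_pow]
    calc f * T n * (g * T n') = (f * g) * (T n * T n') := by ring
      _ = T (↑(n + n')) := by rw [hfg, one_mul, ← T_add]; push_cast; rfl
  have hdvd : p ∣ (Polynomial.X : Polynomial L) ^ (n + n') := ⟨p', hpp.symm⟩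
  obtain ⟨i, hi, hassoc⟩ := (dvd_prime_pow Polynomial.prime_X _).mp hdvd
  obtain ⟨u, hu⟩ := hassoc.symm
  obtain ⟨c, hc, hcu⟩ := Polynomial.isUnit_iff.mp u.isUnit
  refine ⟨c, (i : ℤ) - n, hc.ne_zero, ?_⟩
  have h1 : f * T n = C c * T i := by
    rw [← hp, ← hu, ← hcu, map_mul, Polynomial.toLaurent_X_pow, Polynomial.toLaurent_C, mul_comm]
  calc f = f * T n * T (-n) := by rw [mul_T_assoc, add_neg_cancel, T_zero, mul_one]
    _ = C c * T i * T (-n) := by rw [h1]
    _ = C c * T (i - n) := by rw [mul_T_assoc, sub_eq_add_neg]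

theorem C_mul_T_inj {c c' : L} {n n' : ℤ} (hc : c ≠ 0) (hc' : c' ≠ 0)
    (h : (C c * T n : L[T;T⁻¹]) = C c' * T n') : c = c' ∧ n = n' := by
  have hn : n = n' := by
    have := congrArg LaurentPolynomial.degree h
    rw [degree_C_mul_T _ _ hc, degree_C_mul_T _ _ hc'] at this
    exact_mod_cast this
  subst hn
  refine ⟨?_, rfl⟩
  have := (isUnit_T (R := L) n).mul_left_injective h
  have h2 := congrArg (fun f : L[T;T⁻¹] => f.coeff 0) this
  simp only [C_apply] at h2
  simpa using h2

theorem laurent_ringHom_ext {S : Type v} [Semiring S] (φ ψ : L[T;T⁻¹] →+* S)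
    (hC : ∀ c, φ (C c) = ψ (C c)) (hT : φ (T 1) = ψ (T 1)) (hT' : φ (T (-1)) = ψ (T (-1))) :
    φ = ψ := by
  have hnat : ∀ n : ℕ, φ (T n) = ψ (T n) := by
    intro n
    have : (T (n : ℤ) : L[T;T⁻¹]) = T 1 ^ n := by rw [T_pow, mul_one]
    rw [this, map_pow, map_pow, hT]
  have hneg : ∀ n : ℕ, φ (T (-n)) = ψ (T (-n)) := by
    intro n
    have : (T (-(n : ℤ)) : L[T;T⁻¹]) = T (-1) ^ n := by rw [T_pow]; simp
    rw [this, map_pow, map_pow, hT']
  have hint : ∀ n : ℤ, φ (T n) = ψ (T n) := by
    intro n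
    rcases Int.eq_nat_or_neg n with ⟨k, rfl | rfl⟩
    · exact hnat k
    · exact hneg k
  refine RingHom.ext (fun f => ?_)
  induction f using LaurentPolynomial.induction_on' with
  | add p q hp hq => rw [map_add, map_add, hp, hq]
  | C_mul_T n a => rw [map_mul, map_mul, hC, hint]

end Groth.Agent.Helper6.PLine
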