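import Mathlib

/-!
# The quadratic extension attached to a monic quadratic polynomial `z² + s z + m`
-/

set_option linter.unusedSectionVars false
set_option linter.unusedVariables false
set_option linter.unusedSimpArgs false
set_option autoImplicit false
set_option linter.style.haveILetI false
set_option maxHeartbeats 400000

universe u

open Polynomial

namespace Groth.Agent.Helper6.PLine

variable {K : Type u} [Field K] (s m : K)

/-- The monic quadratic polynomial `z² + s z + m`. -/
noncomputable def qpoly : K[X] := X ^ 2 + C s * X + C m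

lemma qpoly_monic : (qpoly s m).Monic := by
  unfold qpoly
  monicity!

lemma qpoly_natDegree : (qpoly s m).natDegree = 2 := by
  unfold qpoly
  compute_degree!

lemma qpoly_eval (r : K) : (qpoly s m).eval r = r ^ 2 + s * r + m := by
  simp [qpoly]

theorem qpoly_irreducible (h : ∀ r : K, r ^ 2 + s * r + m ≠ 0) : Irreducible (qpoly s m) := by
  rw [(qpoly_monic s m).irreducible_iff_roots_eq_zero_of_degree_le_three
    (by rw [qpoly_natDegree]) (by rw [qpoly_natDegree]; norm_num)]
  rw [Multiset.eq_zero_iff_forall_notMem]
  intro r hr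
  rw [mem_roots (qpoly_monic s m).ne_zero, IsRoot.def, qpoly_eval] at hr
  exact h r hr

/-- The quadratic extension `K[z]/(z² + s z + m)`. -/
abbrev QL := AdjoinRoot (qpoly s m)

/-- The root `α`. -/
noncomputable def rα : QL s m := AdjoinRoot.root (qpoly s m)

/-- The conjugate root `α' = -s - α`. -/
noncomputable def rα' : QL s m := -algebraMap K (QL s m) s - rα s m

lemma qpoly_eval₂ {S : Type*} [CommRing S] (f : K →+* S) (x : S) :
    (qpoly s m).eval₂ f x = x ^ 2 + f s * x + f m := by
  simp [qpoly]

lemma rα_rel : rα s m * rα s m + algebraMap K (QL s m) s * rα s m + algebraMap K (QL s m) m = 0 := by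
  have := AdjoinRoot.eval₂_root (qpoly s m)
  rw [qpoly_eval₂] at this
  rw [rα, AdjoinRoot.algebraMap_eq]
  linear_combination this

lemma rα_add : rα s m + rα' s m = -algebraMap K (QL s m) s := by
  rw [rα']; ring

lemma rα_mul : rα s m * rα' s m = algebraMap K (QL s m) m := by
  rw [rα']; linear_combination -(rα_rel s m)

lemma rα'_rel :
    rα' s m * rα' s m + algebraMap K (QL s m) s * rα' s m + algebraMap K (QL s m) m = 0 := by
  rw [rα']; linear_combination rα_rel s m

lemma delta_sq : (rα s m - rα' s m) ^ 2 = algebraMap K (QL s m) (s ^ 2 - 4 * m) := by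
  rw [rα', map_sub, map_pow, map_mul, map_ofNat]; linear_combination 4 * rα_rel s m

/-- Conjugation on the quadratic extension. -/
noncomputable def conj : QL s m →ₐ[K] QL s m :=
  AdjoinRoot.liftAlgHom (qpoly s m) (Algebra.ofId K (QL s m)) (rα' s m) (by
    rw [qpoly_eval₂]
    have := rα'_rel s m
    simp only [AlgHom.coe_toRingHom, Algebra.ofId_apply]
    linear_combination this)

lemma conj_rα : conj s m (rα s m) = rα' s m := by
  rw [conj, rα]
  exact AdjoinRoot.liftAlgHom_root _ _ _ _

lemma conj_rα' : conj s m (rα' s m) = rα s m := by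
  rw [rα', map_sub, map_neg, conj_rα, AlgHom.commutes, rα']
  ring

section Field

variable [hp : Fact (Irreducible (qpoly s m))]

lemma delta_ne_zero (hD : s ^ 2 - 4 * m ≠ 0) : rα s m - rα' s m ≠ 0 := by
  intro h
  have := delta_sq s m
  rw [h, zero_pow (by norm_num)] at this
  exact hD ((map_eq_zero_iff _ (algebraMap K (QL s m)).injective).mp this.symm)

end Field

end Groth.Agent.Helper6.PLine
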