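import Groth.Agent.Lib.Helper6.PLine.Quad
import Groth.Agent.Lib.Helper6.PLine.Abstract
import Groth.Agent.Lib.Helper6.PLine.QField
import Groth.Agent.Lib.Helper6.PLine.LaurentUnits

/-!
# The embedding of the coordinate ring into Laurent polynomials over the quadratic extension
-/

set_option linter.unusedSectionVars false
set_option linter.unusedVariables false
set_option linter.unusedSimpArgs false
set_option autoImplicit false
set_option linter.style.haveILetI false
set_option maxHeartbeats 400000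

universe u

attribute [local instance] MvPolynomial.gradedAlgebra

open MvPolynomial HomogeneousLocalization

namespace Groth.Agent.Helper6.PLine

attribute [local instance] moduleRR algebraRR

variable {K : Type u} [Field K] (q : MvPolynomial (Fin 2) K)

/-- `s = b / a`. -/
noncomputable def sP : K := cB q / cA q
/-- `m = c / a`. -/
noncomputable def mP : K := cC q / cA q

/-- The quadratic extension attached to `q`. -/
abbrev LL := QL (sP q) (mP q)

/-- Laurent polynomials over the quadratic extension. -/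
abbrev AA := LaurentPolynomial (LL q)

/-- The root `α` in `LL q`. -/
noncomputable abbrev qα : LL q := rα (sP q) (mP q)
/-- The root `α'` in `LL q`. -/
noncomputable abbrev qα' : LL q := rα' (sP q) (mP q)

/-- `x₀ = α - α' T`. -/
noncomputable def x0 : AA q := LaurentPolynomial.C (qα q) - LaurentPolynomial.C (qα' q) * LaurentPolynomial.T 1
/-- `y₀ = 1 - T`. -/
noncomputable def y0 : AA q := 1 - LaurentPolynomial.T 1

/-- Evaluation at `(x₀, y₀)`. -/
noncomputable def evA : MvPolynomial (Fin 2) K →ₐ[K] AA q := aeval ![x0 q, y0 q]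


lemma evA_X0 : evA q (X 0) = x0 q := by simp [evA]
lemma evA_X1 : evA q (X 1) = y0 q := by simp [evA]

lemma algebraMap_AA (k : K) : algebraMap K (AA q) k = LaurentPolynomial.C (algebraMap K (LL q) k) :=
  LaurentPolynomial.algebraMap_apply k

variable {q}

lemma x0_sub_α : x0 q - LaurentPolynomial.C (qα q) * y0 q = LaurentPolynomial.C (qα q - qα' q) * LaurentPolynomial.T 1 := by
  rw [x0, y0, map_sub]; ring

lemma x0_sub_α' : x0 q - LaurentPolynomial.C (qα' q) * y0 q = LaurentPolynomial.C (qα q - qα' q) := by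
  rw [x0, y0, map_sub]; ring

lemma C_rel_add : (LaurentPolynomial.C (qα q) + LaurentPolynomial.C (qα' q) : AA q) = - LaurentPolynomial.C (algebraMap K (LL q) (sP q)) := by
  rw [← map_add, rα_add, map_neg]

lemma C_rel_mul : (LaurentPolynomial.C (qα q) * LaurentPolynomial.C (qα' q) : AA q) = LaurentPolynomial.C (algebraMap K (LL q) (mP q)) := by
  rw [← map_mul, rα_mul]

lemma cB_eq (ha : cA q ≠ 0) : cB q = cA q * sP q := by
  rw [sP, mul_div_cancel₀ _ ha]

lemma cC_eq (ha : cA q ≠ 0) : cC q = cA q * mP q := by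
  rw [mP, mul_div_cancel₀ _ ha]

theorem evA_q (hq : q ∈ homogeneousSubmodule (Fin 2) K 2) (ha : cA q ≠ 0) :
    evA q q = LaurentPolynomial.C (algebraMap K (LL q) (cA q) * (qα q - qα' q) ^ 2) * LaurentPolynomial.T 1 := by
  rw [show evA q q = evA q (cA q • (X 0 ^ 2) + cB q • (X 0 * X 1) + cC q • (X 1 ^ 2)) from
    congrArg _ (q_eq hq)]
  rw [cB_eq ha, cC_eq ha]
  simp only [map_add, map_smul, map_mul, map_pow, evA_X0, evA_X1, Algebra.smul_def, AlgHom.commutes,
    algebraMap_AA]
  have h1 := x0_sub_α (q := q)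
  have h2 := x0_sub_α' (q := q)
  have h3 := C_rel_add (q := q)
  have h4 := C_rel_mul (q := q)
  rw [map_sub] at h1 h2 ⊢
  linear_combination
    (LaurentPolynomial.C (algebraMap K (LL q) (cA q)) * (x0 q - LaurentPolynomial.C (qα' q) * y0 q)) * h1
    + (LaurentPolynomial.C (algebraMap K (LL q) (cA q)) * (LaurentPolynomial.C (qα q) - LaurentPolynomial.C (qα' q)) * LaurentPolynomial.T 1) * h2
    + (LaurentPolynomial.C (algebraMap K (LL q) (cA q)) * x0 q * y0 q) * h3
    - (LaurentPolynomial.C (algebraMap K (LL q) (cA q)) * y0 q * y0 q) * h4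


section Field

variable [hp : Fact (Irreducible (qpoly (sP q) (mP q)))]

lemma unitConst_ne_zero (ha : cA q ≠ 0) (hD : sP q ^ 2 - 4 * mP q ≠ 0) :
    algebraMap K (LL q) (cA q) * (qα q - qα' q) ^ 2 ≠ 0 := by
  refine mul_ne_zero ?_ (pow_ne_zero _ (delta_ne_zero _ _ hD))
  exact (map_ne_zero_iff _ (algebraMap K (LL q)).injective).mpr ha

lemma isUnit_evA_q (hq : q ∈ homogeneousSubmodule (Fin 2) K 2) (ha : cA q ≠ 0)
    (hD : sP q ^ 2 - 4 * mP q ≠ 0) : IsUnit (evA q q) := by
  rw [evA_q hq ha]
  exact ((unitConst_ne_zero ha hD).isUnit.map LaurentPolynomial.C).mul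
    (LaurentPolynomial.isUnit_T 1)

variable (hq : q ∈ homogeneousSubmodule (Fin 2) K 2) (ha : cA q ≠ 0)
  (hD : sP q ^ 2 - 4 * mP q ≠ 0)

/-- The map from the localization `K[x,y][1/q]` to Laurent polynomials. -/
noncomputable def iotaLoc : Localization.Away q →+* AA q :=
  IsLocalization.Away.lift q (g := (evA q).toRingHom) (isUnit_evA_q hq ha hD)

lemma iotaLoc_algebraMap (F : MvPolynomial (Fin 2) K) :
    iotaLoc hq ha hD (algebraMap _ _ F) = evA q F :=
  IsLocalization.Away.lift_eq q (isUnit_evA_q hq ha hD) F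

/-- The image of `1 / q`. -/
noncomputable def Uinv : AA q := iotaLoc hq ha hD (Qi q)

lemma evA_q_mul_Uinv : evA q q * Uinv hq ha hD = 1 := by
  rw [Uinv, ← iotaLoc_algebraMap hq ha hD, ← map_mul, algebraMap_mul_Qi, map_one]

/-- The `K`-algebra map from the coordinate ring to Laurent polynomials. -/
noncomputable def iota : RR q →ₐ[K] AA q :=
  { (iotaLoc hq ha hD).comp (algebraMap (RR q) (Localization.Away q)) with
    commutes' := fun k => by
      simp only [RingHom.toMonoidHom_eq_coe, OneHom.toFun_eq_coe, MonoidHom.toOneHom_coe,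
        MonoidHom.coe_coe, RingHom.coe_comp, Function.comp_apply,
        HomogeneousLocalization.algebraMap_apply]
      rw [Algebra.algebraMap_eq_smul_one]
      erw [HomogeneousLocalization.val_smul]
      rw [HomogeneousLocalization.val_one, ← Algebra.algebraMap_eq_smul_one,
        IsScalarTower.algebraMap_apply K (MvPolynomial (Fin 2) K) (Localization.Away q),
        iotaLoc_algebraMap, AlgHom.commutes] }

lemma iota_apply (z : RR q) : iota hq ha hD z = iotaLoc hq ha hD z.val := rfl

lemma iota_mkR (n : ℕ) (F : MvPolynomial (Fin 2) K)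
    (hF : F ∈ homogeneousSubmodule (Fin 2) K (n • 2)) :
    iota hq ha hD (mkR hq n F hF) = evA q F * Uinv hq ha hD ^ n := by
  rw [iota_apply, val_mkR, map_mul, map_pow, iotaLoc_algebraMap, Uinv]

lemma iota_uR : iota hq ha hD (uR hq) = x0 q ^ 2 * Uinv hq ha hD := by
  rw [uR, mkP_eq hq 1 _ (by simpa using X_pow_mul_mem (K := K) 2 0 1 (by simp)), iota_mkR,
    map_pow, evA_X0, pow_one]

lemma iota_vR : iota hq ha hD (vR hq) = x0 q * y0 q * Uinv hq ha hD := by
  rw [vR, mkP_eq hq 1 _ (by simpa using X_pow_mul_mem (K := K) 1 1 1 (by simp)), iota_mkR,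
    map_mul, evA_X0, evA_X1, pow_one]

lemma iota_wR : iota hq ha hD (wR hq) = y0 q ^ 2 * Uinv hq ha hD := by
  rw [wR, mkP_eq hq 1 _ (by simpa using X_pow_mul_mem (K := K) 0 2 1 (by simp)), iota_mkR,
    map_pow, evA_X1, pow_one]

/-- `X = (a x² - c y²)/q`. -/
noncomputable def XR : RR q := cX (cA q) (cC q) (uR hq) (wR hq)
/-- `Y = -(2 a x y + b y²)/q`. -/
noncomputable def YR : RR q := cY (cA q) (cB q) (vR hq) (wR hq)


lemma C_rel_α : (LaurentPolynomial.C (qα q) * LaurentPolynomial.C (qα q)
    + LaurentPolynomial.C (algebraMap K (LL q) (sP q)) * LaurentPolynomial.C (qα q)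
    + LaurentPolynomial.C (algebraMap K (LL q) (mP q)) : AA q) = 0 := by
  rw [← map_mul, ← map_mul, ← map_add, ← map_add, rα_rel, map_zero]

lemma C_rel_α' : (LaurentPolynomial.C (qα' q) * LaurentPolynomial.C (qα' q)
    + LaurentPolynomial.C (algebraMap K (LL q) (sP q)) * LaurentPolynomial.C (qα' q)
    + LaurentPolynomial.C (algebraMap K (LL q) (mP q)) : AA q) = 0 := by
  rw [← map_mul, ← map_mul, ← map_add, ← map_add, rα'_rel, map_zero]

lemma iota_XR : iota hq ha hD (XR hq) =
    LaurentPolynomial.C (algebraMap K (LL q) (cA q)) * (x0 q ^ 2 * Uinv hq ha hD)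
    - LaurentPolynomial.C (algebraMap K (LL q) (cA q)) *
      LaurentPolynomial.C (algebraMap K (LL q) (mP q)) * (y0 q ^ 2 * Uinv hq ha hD) := by
  rw [XR, cX, map_sub, map_smul, map_smul, iota_uR, iota_wR, Algebra.smul_def, Algebra.smul_def,
    algebraMap_AA, algebraMap_AA]
  conv_lhs => rw [cC_eq ha]
  rw [map_mul, map_mul]

lemma iota_YR : iota hq ha hD (YR hq) =
    -(2 * LaurentPolynomial.C (algebraMap K (LL q) (cA q)) * (x0 q * y0 q * Uinv hq ha hD)
    + LaurentPolynomial.C (algebraMap K (LL q) (cA q)) *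
      LaurentPolynomial.C (algebraMap K (LL q) (sP q)) * (y0 q ^ 2 * Uinv hq ha hD)) := by
  rw [YR, cY, map_neg, map_add, map_smul, map_smul, iota_vR, iota_wR, Algebra.smul_def,
    Algebra.smul_def, algebraMap_AA, algebraMap_AA]
  conv_lhs => rw [cB_eq ha]
  rw [map_mul, map_mul, map_mul, map_ofNat, map_ofNat, map_mul]

theorem iota_X_add_α : iota hq ha hD (XR hq) + LaurentPolynomial.C (qα q) * iota hq ha hD (YR hq)
    = LaurentPolynomial.T 1 := by
  have hU := evA_q_mul_Uinv hq ha hD
  rw [evA_q hq ha, map_mul, map_pow, map_sub] at hU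
  have h1 := x0_sub_α (q := q)
  rw [map_sub] at h1
  have hr := C_rel_α (q := q)
  rw [iota_XR, iota_YR]
  linear_combination (LaurentPolynomial.T 1) * hU
    + (LaurentPolynomial.C (algebraMap K (LL q) (cA q)) * Uinv hq ha hD *
        (x0 q - LaurentPolynomial.C (qα q) * y0 q
          + (LaurentPolynomial.C (qα q) - LaurentPolynomial.C (qα' q)) * LaurentPolynomial.T 1)) * h1
    - (LaurentPolynomial.C (algebraMap K (LL q) (cA q)) * Uinv hq ha hD * y0 q ^ 2) * hr

theorem iota_X_add_α' : iota hq ha hD (XR hq) + LaurentPolynomial.C (qα' q) * iota hq ha hD (YR hq)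
    = LaurentPolynomial.T (-1) := by
  have hU := evA_q_mul_Uinv hq ha hD
  rw [evA_q hq ha, map_mul, map_pow, map_sub] at hU
  have h2 := x0_sub_α' (q := q)
  rw [map_sub] at h2
  have hr := C_rel_α' (q := q)
  have hTT : (LaurentPolynomial.T (-1) * LaurentPolynomial.T 1 : AA q) = 1 := by
    rw [← LaurentPolynomial.T_add]; simp
  rw [iota_XR, iota_YR]
  linear_combination (LaurentPolynomial.T (-1)) * hU
    + (LaurentPolynomial.C (algebraMap K (LL q) (cA q)) * Uinv hq ha hD *
        (x0 q - LaurentPolynomial.C (qα' q) * y0 q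
          + (LaurentPolynomial.C (qα q) - LaurentPolynomial.C (qα' q)))) * h2
    - (LaurentPolynomial.C (algebraMap K (LL q) (cA q)) * Uinv hq ha hD * y0 q ^ 2) * hr
    - (LaurentPolynomial.C (algebraMap K (LL q) (cA q)) * Uinv hq ha hD *
        (LaurentPolynomial.C (qα q) - LaurentPolynomial.C (qα' q)) ^ 2) * hTT

end Field

end Groth.Agent.Helper6.PLine
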