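import Groth.Agent.Lib.Helper6.PLine.Basic

/-!
# Binary quadratic forms: coefficients, irreducibility, relations in the coordinate ring
-/

set_option linter.unusedSectionVars false
set_option linter.unusedVariables false
set_option linter.unusedSimpArgs false
set_option autoImplicit false
set_option linter.style.haveILetI false
set_option maxHeartbeats 400000

universe u

attribute [local instance] MvPolynomial.gradedAlgebra

open MvPolynomial HomogeneousLocalization

namespace Groth.Agent.Helper6.PLine

attribute [local instance] moduleRR algebraRR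

variable {K : Type u} [Field K] (q : MvPolynomial (Fin 2) K)

/-- coefficient of `x²`. -/
noncomputable def cA : K := q.coeff (Finsupp.single 0 2)
/-- coefficient of `xy`. -/
noncomputable def cB : K := q.coeff (Finsupp.single 0 1 + Finsupp.single 1 1)
/-- coefficient of `y²`. -/
noncomputable def cC : K := q.coeff (Finsupp.single 1 2)

lemma fin2_eq (d : Fin 2 →₀ ℕ) : d = Finsupp.single 0 (d 0) + Finsupp.single 1 (d 1) := by
  ext i; fin_cases i <;> simp

variable {q}

theorem q_eq (hq : q ∈ homogeneousSubmodule (Fin 2) K 2) :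
    q = cA q • (X 0 ^ 2) + cB q • (X 0 * X 1) + cC q • (X 1 ^ 2) := by
  have hq' := (mem_homogeneousSubmodule _ _).mp hq
  have e1 : (X 0 ^ 2 : MvPolynomial (Fin 2) K) = monomial (Finsupp.single 0 2) 1 := by
    rw [X_pow_eq_monomial]
  have e2 : (X 0 * X 1 : MvPolynomial (Fin 2) K) =
      monomial (Finsupp.single 0 1 + Finsupp.single 1 1) 1 := by
    rw [X, X, monomial_mul, one_mul]
  have e3 : (X 1 ^ 2 : MvPolynomial (Fin 2) K) = monomial (Finsupp.single 1 2) 1 := by
    rw [X_pow_eq_monomial]
  ext d
  rw [e1, e2, e3]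
  simp only [coeff_add, coeff_smul, coeff_monomial, smul_eq_mul, mul_ite, mul_one, mul_zero]
  by_cases hd : d.degree = 2
  · rw [degree_fin2] at hd
    have hd0 : d 0 ≤ 2 := by omega
    rw [fin2_eq d]
    generalize d 0 = i at *
    generalize d 1 = j at *
    interval_cases i
    · have : j = 2 := by omega
      subst this
      simp [cC, Finsupp.ext_iff, Fin.forall_fin_two]
    · have : j = 1 := by omega
      subst this
      simp [cB, Finsupp.ext_iff, Fin.forall_fin_two]
    · have : j = 0 := by omega
      subst this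
      simp [cA, Finsupp.ext_iff, Fin.forall_fin_two]
  · rw [hq'.coeff_eq_zero hd]
    have h1 : Finsupp.single (0 : Fin 2) 2 ≠ d := by
      rintro rfl; exact hd (by simp [degree_fin2])
    have h2 : Finsupp.single (0 : Fin 2) 1 + Finsupp.single 1 1 ≠ d := by
      rintro rfl; exact hd (by simp [degree_fin2])
    have h3 : Finsupp.single (1 : Fin 2) 2 ≠ d := by
      rintro rfl; exact hd (by simp [degree_fin2])
    simp [h1, h2, h3]


lemma not_isUnit_of_eval_zero (F : MvPolynomial (Fin 2) K) (h : eval (0 : Fin 2 → K) F = 0) :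
    ¬ IsUnit F := by
  intro hu
  have := hu.map (eval (0 : Fin 2 → K))
  rw [h] at this
  exact not_isUnit_zero this

theorem cA_ne_zero (hq : q ∈ homogeneousSubmodule (Fin 2) K 2) (hirr : Irreducible q) :
    cA q ≠ 0 := by
  intro ha
  have e : q = X 1 * (cB q • X 0 + cC q • X 1) := by
    conv_lhs => rw [q_eq hq, ha]
    simp only [smul_eq_C_mul, map_zero]
    ring
  rcases hirr.isUnit_or_isUnit e with h | h
  · exact not_isUnit_of_eval_zero _ (by simp) h
  · exact not_isUnit_of_eval_zero _ (by simp) h

theorem no_root (hq : q ∈ homogeneousSubmodule (Fin 2) K 2) (hirr : Irreducible q) (r : K) :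
    cA q * r ^ 2 + cB q * r + cC q ≠ 0 := by
  intro h
  have hc : cC q = -(cA q * r ^ 2 + cB q * r) := by linear_combination h
  have e : q = (X 0 - r • X 1) * (cA q • X 0 + (cB q + cA q * r) • X 1) := by
    conv_lhs => rw [q_eq hq, hc]
    simp only [smul_eq_C_mul, map_neg, map_add, map_mul, map_pow]
    ring
  rcases hirr.isUnit_or_isUnit e with h | h
  · exact not_isUnit_of_eval_zero _ (by simp) h
  · exact not_isUnit_of_eval_zero _ (by simp) h

/-- Relation `a u + b v + c w = 1` in the coordinate ring. -/
theorem rel_one (hq : q ∈ homogeneousSubmodule (Fin 2) K 2) :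
    cA q • uR hq + cB q • vR hq + cC q • wR hq = 1 := by
  rw [uR, vR, wR, ← map_smul, ← map_smul, ← map_smul, ← map_add, ← map_add, ← q_eq hq, mkP_q]

/-- Relation `u w = v v` in the coordinate ring. -/
theorem rel_mul (hq : q ∈ homogeneousSubmodule (Fin 2) K 2) :
    uR hq * wR hq = vR hq * vR hq := by
  have h20 : (X 0 ^ 2 : MvPolynomial (Fin 2) K) ∈ homogeneousSubmodule (Fin 2) K (1 • 2) := by
    simpa using X_pow_mul_mem (K := K) 2 0 1 (by simp)
  have h02 : (X 1 ^ 2 : MvPolynomial (Fin 2) K) ∈ homogeneousSubmodule (Fin 2) K (1 • 2) := by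
    simpa using X_pow_mul_mem (K := K) 0 2 1 (by simp)
  have h11 : (X 0 * X 1 : MvPolynomial (Fin 2) K) ∈ homogeneousSubmodule (Fin 2) K (1 • 2) := by
    simpa using X_pow_mul_mem (K := K) 1 1 1 (by simp)
  rw [uR, vR, wR, ← mkP_mul hq 1 1 _ _ h20 h02, ← mkP_mul hq 1 1 _ _ h11 h11]
  congr 1
  ring

end Groth.Agent.Helper6.PLine
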