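import Groth.Agent.Lib.Helper6.PLine.Iota

/-!
# Base change of the coordinate ring to the quadratic extension is a Laurent polynomial ring
-/

set_option linter.unusedSectionVars false
set_option linter.unusedVariables false
set_option linter.unusedSimpArgs false
set_option autoImplicit false
set_option linter.style.haveILetI false
set_option maxHeartbeats 400000

universe u

attribute [local instance] MvPolynomial.gradedAlgebra

open MvPolynomial HomogeneousLocalization TensorProduct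

namespace Groth.Agent.Helper6.PLine

attribute [local instance] moduleRR algebraRR

variable {K : Type u} [Field K] {q : MvPolynomial (Fin 2) K}
variable [hp : Fact (Irreducible (qpoly (sP q) (mP q)))]
variable (hq : q ∈ homogeneousSubmodule (Fin 2) K 2)

variable (q) in
/-- The base change `L ⊗_K R`. -/
abbrev SS := LL q ⊗[K] RR q

/-- `1 ⊗ X`. -/
noncomputable def XS : SS q := (1 : LL q) ⊗ₜ[K] XR hq
/-- `1 ⊗ Y`. -/
noncomputable def YS : SS q := (1 : LL q) ⊗ₜ[K] YR hq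

/-- `t = X + α Y`. -/
noncomputable def tS : SS q := XS hq + qα q • YS hq
/-- `t' = X + α' Y`. -/
noncomputable def tS' : SS q := XS hq + qα' q • YS hq

lemma norm_XR_YR (ha : cA q ≠ 0) :
    XR hq * XR hq - sP q • (XR hq * YR hq) + mP q • (YR hq * YR hq) = 1 :=
  norm_eq ha (rel_one hq) (rel_mul hq)

lemma includeRight_XR : (Algebra.TensorProduct.includeRight (R := K) (A := LL q) (XR hq)) = XS hq :=
  rfl

lemma includeRight_YR : (Algebra.TensorProduct.includeRight (R := K) (A := LL q) (YR hq)) = YS hq :=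
  rfl

lemma norm_XS_YS (ha : cA q ≠ 0) :
    XS hq * XS hq - sP q • (XS hq * YS hq) + mP q • (YS hq * YS hq) = 1 := by
  have := congrArg (Algebra.TensorProduct.includeRight (R := K) (A := LL q)) (norm_XR_YR hq ha)
  rw [map_add, map_sub, map_smul, map_smul, map_mul, map_mul, map_mul, map_one,
    includeRight_XR, includeRight_YR] at this
  exact this

lemma tS_mul_tS' (ha : cA q ≠ 0) : tS hq * tS' hq = 1 := by
  have h := norm_XS_YS hq ha
  have hadd : qα q + qα' q = -algebraMap K (LL q) (sP q) := rα_add _ _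
  have hmul : qα q * qα' q = algebraMap K (LL q) (mP q) := rα_mul _ _
  calc tS hq * tS' hq
      = XS hq * XS hq + (qα q + qα' q) • (XS hq * YS hq) + (qα q * qα' q) • (YS hq * YS hq) := by
        rw [tS, tS']
        simp only [add_mul, mul_add, smul_mul_assoc, mul_smul_comm, add_smul, smul_smul, smul_add,
          mul_comm (YS hq) (XS hq)]
        module
    _ = XS hq * XS hq - sP q • (XS hq * YS hq) + mP q • (YS hq * YS hq) := by
        rw [hadd, hmul, ← map_neg, algebraMap_smul, algebraMap_smul, neg_smul, sub_eq_add_neg]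
    _ = 1 := h

/-- `t` as a unit. -/
noncomputable def tU (ha : cA q ≠ 0) : (SS q)ˣ :=
  ⟨tS hq, tS' hq, tS_mul_tS' hq ha, by rw [mul_comm]; exact tS_mul_tS' hq ha⟩

lemma tU_val (ha : cA q ≠ 0) : ((tU hq ha : (SS q)ˣ) : SS q) = tS hq := rfl
lemma tU_inv_val (ha : cA q ≠ 0) : (((tU hq ha)⁻¹ : (SS q)ˣ) : SS q) = tS' hq := rfl


section Equiv

variable (ha : cA q ≠ 0) (hD : sP q ^ 2 - 4 * mP q ≠ 0)

/-- The forward map `L ⊗_K R → L[T;T⁻¹]`. -/
noncomputable def eFwd : SS q →ₐ[LL q] AA q :=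
  Algebra.TensorProduct.lift (Algebra.ofId (LL q) (AA q)) (iota hq ha hD)
    (fun x y => Commute.all _ _)

lemma eFwd_tmul (l : LL q) (r : RR q) :
    eFwd hq ha hD (l ⊗ₜ[K] r) = LaurentPolynomial.C l * iota hq ha hD r := by
  rw [eFwd, Algebra.TensorProduct.lift_tmul, Algebra.ofId_apply,
    ← LaurentPolynomial.C_eq_algebraMap]

lemma eFwd_XS : eFwd hq ha hD (XS hq) = iota hq ha hD (XR hq) := by
  rw [XS, eFwd_tmul, map_one, one_mul]

lemma eFwd_YS : eFwd hq ha hD (YS hq) = iota hq ha hD (YR hq) := by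
  rw [YS, eFwd_tmul, map_one, one_mul]

lemma eFwd_tS : eFwd hq ha hD (tS hq) = LaurentPolynomial.T 1 := by
  rw [tS, map_add, map_smul, eFwd_XS, eFwd_YS, Algebra.smul_def,
    ← LaurentPolynomial.C_eq_algebraMap, iota_X_add_α]

lemma eFwd_tS' : eFwd hq ha hD (tS' hq) = LaurentPolynomial.T (-1) := by
  rw [tS', map_add, map_smul, eFwd_XS, eFwd_YS, Algebra.smul_def,
    ← LaurentPolynomial.C_eq_algebraMap, iota_X_add_α']

/-- The backward map `L[T;T⁻¹] → L ⊗_K R`. -/
noncomputable def eBwd : AA q →ₐ[LL q] SS q :=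
  { LaurentPolynomial.eval₂ (algebraMap (LL q) (SS q)) (tU hq ha) with
    commutes' := fun l => by
      simp only [RingHom.toMonoidHom_eq_coe, OneHom.toFun_eq_coe, MonoidHom.toOneHom_coe,
        MonoidHom.coe_coe]
      rw [← LaurentPolynomial.C_eq_algebraMap, LaurentPolynomial.eval₂_C] }

lemma eBwd_T (n : ℤ) : eBwd hq ha (LaurentPolynomial.T n) = ((tU hq ha ^ n : (SS q)ˣ) : SS q) :=
  LaurentPolynomial.eval₂_T _ _ n

lemma eBwd_C (l : LL q) : eBwd hq ha (LaurentPolynomial.C l) = algebraMap (LL q) (SS q) l :=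
  LaurentPolynomial.eval₂_C _ _ l

lemma eFwd_comp_eBwd : (eFwd hq ha hD).comp (eBwd hq ha) = AlgHom.id (LL q) (AA q) := by
  have : ((eFwd hq ha hD).comp (eBwd hq ha)).toRingHom = (AlgHom.id (LL q) (AA q)).toRingHom := by
    apply laurent_ringHom_ext
    · intro c
      simp only [AlgHom.toRingHom_eq_coe, RingHom.coe_coe, AlgHom.comp_apply, AlgHom.id_apply]
      rw [eBwd_C, AlgHom.commutes, ← LaurentPolynomial.C_eq_algebraMap]
    · simp only [AlgHom.toRingHom_eq_coe, RingHom.coe_coe, AlgHom.comp_apply, AlgHom.id_apply]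
      rw [eBwd_T, zpow_one, tU_val, eFwd_tS]
    · simp only [AlgHom.toRingHom_eq_coe, RingHom.coe_coe, AlgHom.comp_apply, AlgHom.id_apply]
      rw [eBwd_T, zpow_neg_one, tU_inv_val, eFwd_tS']
  exact AlgHom.ext (fun x => RingHom.congr_fun this x)


lemma disc_sP_mP (ha : cA q ≠ 0) : sP q ^ 2 - 4 * mP q = (cB q ^ 2 - 4 * cA q * cC q) / cA q ^ 2 := by
  rw [sP, mP]; field_simp

lemma disc_ne_zero (ha : cA q ≠ 0) (hD : sP q ^ 2 - 4 * mP q ≠ 0) : cB q ^ 2 - 4 * cA q * cC q ≠ 0 := by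
  intro h
  apply hD
  rw [disc_sP_mP ha, h, zero_div]

lemma adjoin_XR_YR_eq_top (ha : cA q ≠ 0) (hD : sP q ^ 2 - 4 * mP q ≠ 0) : Algebra.adjoin K ({XR hq, YR hq} : Set (RR q)) = ⊤ :=
  adjoin_XY_eq_top ha (disc_ne_zero ha hD) (rel_one hq) (adjoin_uvw_eq_top hq)

lemma eBwd_iota_XY :
    eBwd hq ha (iota hq ha hD (XR hq)) = XS hq ∧ eBwd hq ha (iota hq ha hD (YR hq)) = YS hq := by
  have h1 := congrArg (eBwd hq ha) (iota_X_add_α hq ha hD)
  have h2 := congrArg (eBwd hq ha) (iota_X_add_α' hq ha hD)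
  have hs : ∀ (l : LL q) (z : SS q), l • z = algebraMap (LL q) (SS q) l * z :=
    fun l z => Algebra.smul_def l z
  rw [map_add, map_mul, eBwd_C, eBwd_T, zpow_one, tU_val, tS, hs] at h1
  rw [map_add, map_mul, eBwd_C, eBwd_T, zpow_neg_one, tU_inv_val, tS', hs] at h2
  have hδ : IsUnit (algebraMap (LL q) (SS q) (qα q - qα' q)) :=
    (delta_ne_zero _ _ hD).isUnit.map _
  have e1 : algebraMap (LL q) (SS q) (qα q - qα' q) *
      (eBwd hq ha (iota hq ha hD (YR hq)) - YS hq) = 0 := by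
    rw [map_sub]; linear_combination h1 - h2
  have hQ : eBwd hq ha (iota hq ha hD (YR hq)) = YS hq :=
    sub_eq_zero.mp (hδ.mul_right_eq_zero.mp e1)
  refine ⟨?_, hQ⟩
  rw [hQ] at h1
  exact add_right_cancel h1

lemma eBwd_comp_eFwd : (eBwd hq ha).comp (eFwd hq ha hD) = AlgHom.id (LL q) (SS q) := by
  apply Algebra.TensorProduct.ext_ring
  apply AlgHom.ext_of_adjoin_eq_top (adjoin_XR_YR_eq_top hq ha hD)
  intro x hx
  simp only [Set.mem_insert_iff, Set.mem_singleton_iff] at hx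
  rcases hx with rfl | rfl
  · change eBwd hq ha (eFwd hq ha hD (XS hq)) = XS hq
    rw [eFwd_XS, (eBwd_iota_XY hq ha hD).1]
  · change eBwd hq ha (eFwd hq ha hD (YS hq)) = YS hq
    rw [eFwd_YS, (eBwd_iota_XY hq ha hD).2]

/-- The isomorphism `L ⊗_K R ≃ L[T;T⁻¹]`. -/
noncomputable def eEquiv : SS q ≃ₐ[LL q] AA q :=
  AlgEquiv.ofAlgHom (eFwd hq ha hD) (eBwd hq ha) (eFwd_comp_eBwd hq ha hD) (eBwd_comp_eFwd hq ha hD)

lemma eEquiv_apply (x : SS q) : eEquiv hq ha hD x = eFwd hq ha hD x := rfl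
lemma eEquiv_symm_apply (x : AA q) : (eEquiv hq ha hD).symm x = eBwd hq ha x := rfl

/-- Units of `L ⊗_K R` are of the form `c t ^ n`. -/
theorem units_SS (hD : sP q ^ 2 - 4 * mP q ≠ 0) (x : SS q) (hx : IsUnit x) :
    ∃ (c : LL q) (n : ℤ), c ≠ 0 ∧ x = c • ((tU hq ha ^ n : (SS q)ˣ) : SS q) := by
  obtain ⟨c, n, hc, h⟩ := laurent_isUnit_eq (eEquiv hq ha hD x) (hx.map (eEquiv hq ha hD))
  refine ⟨c, n, hc, ?_⟩
  have := congrArg (eEquiv hq ha hD).symm h
  rw [AlgEquiv.symm_apply_apply, eEquiv_symm_apply, map_mul, eBwd_C, eBwd_T,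
    ← Algebra.smul_def] at this
  exact this

/-- Uniqueness of the presentation `c t ^ n`. -/
theorem units_SS_inj (hD : sP q ^ 2 - 4 * mP q ≠ 0)
    {c c' : LL q} {n n' : ℤ} (hc : c ≠ 0) (hc' : c' ≠ 0)
    (h : c • ((tU hq ha ^ n : (SS q)ˣ) : SS q) = c' • ((tU hq ha ^ n' : (SS q)ˣ) : SS q)) :
    c = c' ∧ n = n' := by
  have := congrArg (eEquiv hq ha hD).symm.symm h
  have key : ∀ (c : LL q) (n : ℤ), c • ((tU hq ha ^ n : (SS q)ˣ) : SS q)
      = (eEquiv hq ha hD).symm (LaurentPolynomial.C c * LaurentPolynomial.T n) := by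
    intro c n
    rw [eEquiv_symm_apply, map_mul, eBwd_C, eBwd_T, ← Algebra.smul_def]
  rw [key, key] at h
  exact C_mul_T_inj hc hc' ((eEquiv hq ha hD).symm.injective h)

end Equiv

end Groth.Agent.Helper6.PLine
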